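import Mathlib
import Cfsg.Agent.Lib.Helper13.S5955.Defs2
import Cfsg.Agent.Lib.Helper24.ElQ
import Cfsg.Agent.Lib.Helper24.ElR
import Cfsg.Agent.Lib.Lead.SympCount

set_option autoImplicit false

/-!
# Project S5956: definitions (Sp_2d(q) acting on the nondegenerate m-spaces)

Everything of project S5955 (`SCtx`, `SInv`, `SND`, `STI`, `SOrth`, `fixS`, `cycS`, `stdB`, `OSum`) is
reused; the Jordan decomposition predicate is helper24's `ElJD`.
-/

namespace Cfsg.Agent.Lib.helper3.S5956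

open Polynomial Module
open Cfsg.Agent.Lib.Helper13.S5955 Cfsg.Agent.Lib.Helper24

/-- the set of nondegenerate `m`-spaces of the standard space, as in the frozen statement -/
abbrev NDm (d m : ℕ) (F : Type*) [Field F] : Type _ :=
  {W : Submodule F (Fin d ⊕ Fin d → F) //
    Module.finrank F ↥W = m ∧ (∀ u ∈ W, u ≠ 0 → ∃ v ∈ W, Cfsg.sympForm d F u v ≠ 0)}

/-- `m` is the dimension of some nondegenerate invariant subspace -/
def NDd {F : Type*} [Field F] {V : Type*} [AddCommGroup V] [Module F V]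
    (B : LinearMap.BilinForm F V) (x : Module.End F V) (m : ℕ) : Prop :=
  ∃ W : Submodule F V, SInv x W ∧ SND B W ∧ Module.finrank F W = m

/-- every odd part has even multiplicity -/
def OddEven (ν : Multiset ℕ) : Prop := ∀ a : ℕ, Odd a → Even (ν.count a)

/-- the partition condition of the frozen statement, literally -/
def PC (p d m : ℕ) : Prop :=
  ∀ μ : Multiset ℕ, (∀ a ∈ μ, 0 < a ∧ a ≤ p) → (∀ a : ℕ, Odd a → Even (μ.count a)) →
    μ.sum = 2 * d →
      ∃ ν : Multiset ℕ, ν ≤ μ ∧ ν.sum = m ∧ ∀ a : ℕ, Odd a → Even (ν.count a)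

/-- the orthogonal sum of two forms -/
def prodB {F : Type*} [Field F] {V₁ V₂ : Type*} [AddCommGroup V₁] [Module F V₁]
    [AddCommGroup V₂] [Module F V₂] (B₁ : LinearMap.BilinForm F V₁)
    (B₂ : LinearMap.BilinForm F V₂) : LinearMap.BilinForm F (V₁ × V₂) :=
  B₁.compl₁₂ (LinearMap.fst F V₁ V₂) (LinearMap.fst F V₁ V₂) +
    B₂.compl₁₂ (LinearMap.snd F V₁ V₂) (LinearMap.snd F V₁ V₂)

theorem prodB_apply {F : Type*} [Field F] {V₁ V₂ : Type*} [AddCommGroup V₁] [Module F V₁]
    [AddCommGroup V₂] [Module F V₂] (B₁ : LinearMap.BilinForm F V₁)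
    (B₂ : LinearMap.BilinForm F V₂) (u v : V₁ × V₂) :
    prodB B₁ B₂ u v = B₁ u.1 v.1 + B₂ u.2 v.2 := rfl

/-- data for a nilpotent element of the symplectic Lie algebra with Jordan type `μ` -/
structure UData {F : Type*} [Field F] {V : Type*} [AddCommGroup V] [Module F V]
    (B : LinearMap.BilinForm F V) (N : Module.End F V) (μ : Multiset ℕ) : Prop where
  alt : ∀ v, B v v = 0
  nd : ∀ u, (∀ v, B u v = 0) → u = 0
  skew : ∀ u v, B (N u) v = - B u (N v)
  jd : ElJD N ⊤ μ

/-- the nondegeneracy condition of the frozen statement is `SND` for `stdB` -/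
theorem nd_iff_snd {F : Type*} [Field F] (d : ℕ) (W : Submodule F (Fin d ⊕ Fin d → F)) :
    (∀ u ∈ W, u ≠ 0 → ∃ v ∈ W, Cfsg.sympForm d F u v ≠ 0) ↔ SND (stdB d F) W := by
  constructor
  · intro h u hu hz
    by_contra hne
    obtain ⟨v, hv, hv0⟩ := h u hu hne
    exact hv0 (hz v hv)
  · intro h u hu hne
    by_contra hcon
    push Not at hcon
    exact hne (h u hu (fun v hv => hcon v hv))

end Cfsg.Agent.Lib.helper3.S5956
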